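import Groth.Agent.UnipNormLib.Points
import Groth.Agent.BorelLib.RedTorus

/-!
Normalisers of subgroups of connected unipotent groups over a field.
-/

set_option autoImplicit false
set_option backward.isDefEq.respectTransparency false
set_option maxHeartbeats 1000000
set_option synthInstance.maxHeartbeats 400000
set_option linter.unusedSectionVars false

universe u

open CategoryTheory CategoryTheory.Limits MonoidalCategory CartesianMonoidalCategory AlgebraicGeometry WithConv
open scoped MonObj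
open CoactBr (sp)

noncomputable section

attribute [-instance] CategoryTheory.Hom.commGroup

namespace Groth.Agent.UnipNorm

open Groth.Agent.BorelLib

attribute [local instance] pTop pTopTensor

variable {k : Type u} [Field k] (s : (Spec (CommRingCat.of k) : Scheme.{u}))
  {G U : Over (Spec (CommRingCat.of k))} [GrpObj G] [IsAffine G.left] [Smooth G.hom] [ConnectedSpace G.left]
  [GrpObj U] [Smooth U.hom] [ConnectedSpace U.left] (i : U ⟶ G) [IsMonHom i] [IsClosedImmersion i.left]

include s in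
/-- A proper smooth connected subgroup of a connected unipotent group differs from its normalizer. -/
theorem exists_normalizing_point
    (hG : Red.HasNoSubtorus (AlgebraicClosure ((Spec (CommRingCat.of k)).residueField s)) (Red.geomFibre s G))
    (hne : ¬ IsIso i.left) :
    ∃ a : Over.mk (Red.geomPt s) ⟶ G, (¬ ∃ b, b ≫ i = a) ∧
      ∀ (X' : Over (Spec (CommRingCat.of k))) (x : X' ⟶ Over.mk (Red.geomPt s)) (h : X' ⟶ U),
        (∃ h' : X' ⟶ U, (x ≫ a) * (h ≫ i) * (x ≫ a)⁻¹ = h' ≫ i) ∧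
        ∃ h' : X' ⟶ U, (x ≫ a)⁻¹ * (h ≫ i) * (x ≫ a) = h' ≫ i := by
  let t := Red.geomPt s
  let E := fun (Y : Over (Spec (CommRingCat.of (AlgebraicClosure ((Spec (CommRingCat.of k)).residueField s))))) =>
    PowEtCentralLib.adjEquiv t Y (G := G)
  obtain ⟨ga, gs, gc⟩ := geom_facts s G
  haveI := ga; haveI := gs; haveI := gc
  obtain ⟨A, _, _, v, hv, hA, hAr⟩ := exists_setup (Red.geomFibre s G)
  haveI := hv; haveI := hA; haveI := hAr
  haveI : LocallyOfFiniteType U.hom := by rw [← Over.w i]; infer_instance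
  haveI : IsAffine U.left := isAffine_of_isAffineHom i.left
  obtain ⟨-, us, uc⟩ := geom_facts s U
  haveI := us; haveI := uc
  haveI := DiagRep.isMonHom_bc_map t i
  haveI : IsClosedImmersion ((Over.pullback t).map i).left := isClosedImmersion_bc t i
  let H := ptsSub v ((Over.pullback t).map i)
  haveI : AlgebraicGeometry.IsReduced (Red.bc t U).left := AlgSpLib.isReduced_of_smooth (Red.bc t U).hom
  haveI : AlgebraicGeometry.IsReduced (Red.bc t G).left := AlgSpLib.isReduced_of_smooth (Red.bc t G).hom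
  haveI : LocallyOfFiniteType (Red.bc t U).hom := inferInstance
  have hH : H ≠ ⊤ := fun e => hne (by
    obtain ⟨φ, hφ⟩ := exists_iso_of_eq v (i := (Over.pullback t).map i) (i' := 𝟙 (Red.bc t G)) (by
      refine e.trans (Eq.symm ?_)
      ext x
      simp only [mem_ptsSub, Subgroup.mem_top, iff_true]
      exact ⟨_, Category.comp_id _⟩)
    rw [Category.comp_id] at hφ
    haveI : IsIso i := isIso_of_geom s i (hφ ▸ inferInstance)
    exact inferInstanceAs (IsIso ((Over.forget _).map i)))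
  have huni : ∀ g : Pt _ A, IsUni g := fun g => uni_of_hasNoSubtorus v (𝟙 _) hG g (by
    rw [mem_ptsSub]; exact ⟨_, Category.comp_id _⟩)
  obtain ⟨K, -, -, hlt, hN⟩ := exists_normalizing (isPreconnected_univ_of_connected v) huni
    (isClosed_ptsSub v) (isPreconnected_ptsSub v) hH
  obtain ⟨_, -, ht⟩ := exists_geomPt_algebra s
  obtain ⟨g, hgK, hgH⟩ := SetLike.exists_of_lt hlt
  obtain ⟨a, rfl⟩ := (FF.toPt t v).surjective g
  refine ⟨a, fun hb => hgH ((FF.mem_ptsSub_bc t v i a).2 hb), fun X' x h => ?_⟩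
  let gam : RPt (Red.bc t G) := FF.ptK t G a
  have hconj : ∀ δ : RPt (Red.bc t G), Normalizes H ((ptEquiv v).symm δ) →
      ∃ F : Red.bc t U ⟶ Red.bc t U, F ≫ (Over.pullback t).map i =
        (toUnit _ ≫ δ) * (Over.pullback t).map i * (toUnit _ ≫ δ)⁻¹ := fun δ hδ => by
    refine NA.exists_factor_of_pts _ _ fun b => ?_
    obtain ⟨c, hc⟩ := (mem_ptsSub v).1 (hδ ((ptEquiv v).symm (b ≫ (Over.pullback t).map i))
      ((mem_ptsSub v).2 ⟨b, ((ptEquiv v).apply_symm_apply _).symm⟩))
    refine ⟨c, hc.trans ?_⟩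
    simp only [map_mul, map_inv, MulEquiv.apply_symm_apply, MonObj.comp_mul, GrpObj.comp_inv]
    rw [← Category.assoc b (toUnit _) δ, toUnit_unique (b ≫ toUnit _) (𝟙 _), Category.id_comp]
  obtain ⟨F₁, hF₁⟩ := hconj gam (hN _ hgK)
  obtain ⟨F₂, hF₂⟩ := hconj gam⁻¹ (by rw [map_inv]; exact hN _ (K.inv_mem hgK))
  let Y : Over (Spec (CommRingCat.of (AlgebraicClosure ((Spec (CommRingCat.of k)).residueField s)))) := Over.mk x.left
  let e : (Over.map t).obj Y ≅ X' := Over.isoMk (Iso.refl _) (by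
    show 𝟙 _ ≫ X'.hom = x.left ≫ t
    rw [Category.id_comp]
    exact (Over.w x).symm)
  have hx : e.hom ≫ x = (Over.map t).map (toUnit Y) ≫ (FF.oneIso t).hom := Over.OverMorphism.ext (by
    show 𝟙 _ ≫ x.left = _
    simp [FF.oneIso]
    rfl)
  have hgam : E Y (e.hom ≫ x ≫ a) = toUnit Y ≫ gam := by
    rw [reassoc_of% hx]
    refine ((Over.mapPullbackAdj t).homEquiv_naturality_left (toUnit Y) _).trans ?_
    show toUnit Y ≫ _ = toUnit Y ≫ FF.ptK t G a
    congr 1
  let η₀ : Y ⟶ Red.bc t U := (Over.mapPullbackAdj t).homEquiv Y U (e.hom ≫ h)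
  have hη : E Y (e.hom ≫ h ≫ i) = η₀ ≫ (Over.pullback t).map i := by
    rw [← Category.assoc]
    exact (Over.mapPullbackAdj t).homEquiv_naturality_right _ _
  have key : ∀ (F : Red.bc t U ⟶ Red.bc t U) (g : (Over.map t).obj Y ⟶ G) (δ : RPt (Red.bc t G)),
      E Y g = toUnit Y ≫ δ → F ≫ (Over.pullback t).map i =
        (toUnit _ ≫ δ) * (Over.pullback t).map i * (toUnit _ ≫ δ)⁻¹ →
      ∃ h' : X' ⟶ U, (e.inv ≫ g) * (h ≫ i) * (e.inv ≫ g)⁻¹ = h' ≫ i := fun F g δ hg hF => by
    refine ⟨e.inv ≫ ((Over.mapPullbackAdj t).homEquiv Y U).symm (η₀ ≫ F), ?_⟩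
    rw [← cancel_epi e.hom]
    simp only [MonObj.comp_mul, GrpObj.comp_inv, ← Category.assoc, e.hom_inv_id, Category.id_comp]
    apply (E Y).injective
    rw [map_mul, map_mul, map_inv, hg, Category.assoc, hη]
    refine Eq.trans ?_ ((Over.mapPullbackAdj t).homEquiv_naturality_right _ i).symm
    rw [Equiv.apply_symm_apply, Category.assoc, hF]
    simp only [MonObj.comp_mul, GrpObj.comp_inv, ← Category.assoc, toUnit_unique (η₀ ≫ toUnit _) (toUnit Y)]
  refine ⟨?_, ?_⟩
  · obtain ⟨h', hh'⟩ := key F₁ (e.hom ≫ x ≫ a) gam hgam hF₁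
    exact ⟨h', by simpa using hh'⟩
  · obtain ⟨h', hh'⟩ := key F₂ (e.hom ≫ x ≫ a)⁻¹ gam⁻¹
      (by rw [map_inv, hgam, GrpObj.comp_inv]) hF₂
    exact ⟨h', by simpa [GrpObj.comp_inv] using hh'⟩

include s in
/-- A subgroup of codimension one of a connected unipotent group is normal. -/
theorem isNormalHom_of_codim_one
    (hG : Red.HasNoSubtorus (AlgebraicClosure ((Spec (CommRingCat.of k)).residueField s)) (Red.geomFibre s G))
    {d : ℕ} (hd : topologicalKrullDim ↥U.left = (d : WithBot ℕ∞))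
    (hd' : topologicalKrullDim ↥G.left = ((d + 1 : ℕ) : WithBot ℕ∞)) : AlgGrp.IsNormalHom i := by
  let t := Red.geomPt s
  obtain ⟨ga, gs, gc⟩ := geom_facts s G
  haveI := ga; haveI := gs; haveI := gc
  obtain ⟨A, _, _, v, hv, hA, hAr⟩ := exists_setup (Red.geomFibre s G)
  haveI := hv; haveI := hA; haveI := hAr
  haveI : LocallyOfFiniteType U.hom := by rw [← Over.w i]; infer_instance
  haveI : IsAffine U.left := isAffine_of_isAffineHom i.left
  obtain ⟨-, us, uc⟩ := geom_facts s U
  haveI := us; haveI := uc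
  haveI := DiagRep.isMonHom_bc_map t i
  haveI : IsClosedImmersion ((Over.pullback t).map i).left := isClosedImmersion_bc t i
  obtain ⟨_, -, ht⟩ := exists_geomPt_algebra s
  have hdim : ∀ (X : Over (Spec (CommRingCat.of k))) [LocallyOfFiniteType X.hom],
      topologicalKrullDim ↥(Red.geomFibre s X).left = topologicalKrullDim ↥X.left := fun X _ => by
    show topologicalKrullDim ↥(pullback X.hom (Red.geomPt s)) = _
    rw [ht]
    exact FibDimLib.topologicalKrullDim_pullback_field k _ X.hom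
  have hnorm := normalizes_of_codim_one v ((Over.pullback t).map i) hG ((hdim U).trans hd) ((hdim G).trans hd')
  haveI : Smooth (G ⊗ U).hom := inferInstanceAs (Smooth (pullback.fst G.hom U.hom ≫ G.hom))
  haveI : AlgebraicGeometry.IsReduced (G ⊗ U).left := AlgSpLib.isReduced_of_smooth (G ⊗ U).hom
  let c : G ⊗ U ⟶ G := fst G U * (snd G U ≫ i) * (fst G U)⁻¹
  haveI : Smooth (Red.bc t (G ⊗ U)).hom := MorphismProperty.pullback_snd (P := @Smooth) _ _ inferInstance
  haveI : AlgebraicGeometry.IsReduced (Red.bc t (G ⊗ U)).left := AlgSpLib.isReduced_of_smooth (Red.bc t (G ⊗ U)).hom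
  have hmap : (Over.pullback t).map c = (Over.pullback t).map (fst G U) *
      ((Over.pullback t).map (snd G U) ≫ (Over.pullback t).map i) * ((Over.pullback t).map (fst G U))⁻¹ := by
    rw [← Functor.map_comp]
    show (Functor.homMonoidHom (Over.pullback t) : (G ⊗ U ⟶ G) →* _) c = _
    simp only [c, map_mul, map_inv]
    rfl
  obtain ⟨ĉ, hĉ⟩ := exists_factor_of_geom s c i (by
    refine NA.exists_factor_of_pts _ _ fun b => ?_
    obtain ⟨d', hd''⟩ := (mem_ptsSub v).1 (hnorm ((ptEquiv v).symm (b ≫ (Over.pullback t).map (fst G U))) _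
      ((mem_ptsSub v (x := (ptEquiv v).symm ((b ≫ (Over.pullback t).map (snd G U)) ≫ (Over.pullback t).map i))).2
        ⟨_, ((ptEquiv v).apply_symm_apply _).symm⟩))
    refine ⟨d', hd''.trans ?_⟩
    rw [hmap]
    simp only [map_mul, map_inv, MulEquiv.apply_symm_apply, MonObj.comp_mul, GrpObj.comp_inv, Category.assoc])
  intro X g n
  refine ⟨lift g n ≫ ĉ, ?_⟩
  rw [Category.assoc, hĉ]
  simp only [c, MonObj.comp_mul, GrpObj.comp_inv, lift_fst, lift_snd_assoc]

end Groth.Agent.UnipNorm
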