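import Groth.Agent.BorelLib.RedUnip
import Groth.Agent.BorelLib.Facts
import Groth.Agent.MiscFlat6.TopDimCovers

/-!
Normalisers grow in connected unipotent groups of points.
-/

set_option autoImplicit false
set_option backward.isDefEq.respectTransparency false
set_option maxHeartbeats 1000000
set_option linter.unusedSectionVars false

universe u

open CategoryTheory CategoryTheory.Limits MonoidalCategory CartesianMonoidalCategory AlgebraicGeometry WithConv
open scoped MonObj commutatorElement
open CoactBr (sp)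

noncomputable section

attribute [-instance] CategoryTheory.Hom.commGroup

namespace Groth.Agent.UnipNorm

open Groth.Agent.BorelLib

attribute [local instance] pTop pTopTensor

variable {k : Type u} [Field k] [IsAlgClosed k] {A : Type u} [CommRing A] [HopfAlgebra k A] [Algebra.FiniteType k A]

theorem isPreconnected_sup {H C : Subgroup (Pt k A)} (hH : _root_.IsPreconnected (H : Set (Pt k A)))
    (hC : _root_.IsPreconnected (C : Set (Pt k A))) :
    _root_.IsPreconnected ((H ⊔ C : Subgroup (Pt k A)) : Set (Pt k A)) := by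
  rw [Subgroup.sup_eq_closure]
  refine isPreconnected_of_forall 1 fun g hg => ?_
  induction hg using Subgroup.closure_induction with
  | mem g hg =>
    rcases hg with hg | hg
    · exact ⟨H, fun z hz => Subgroup.subset_closure (Or.inl hz), H.one_mem, hg, hH⟩
    · exact ⟨C, fun z hz => Subgroup.subset_closure (Or.inr hz), C.one_mem, hg, hC⟩
  | one => exact ⟨{1}, by simp [one_mem], rfl, rfl, isPreconnected_singleton⟩
  | mul g h _ _ hg hh =>
    obtain ⟨T, hT, h1, hgT, hTc⟩ := hg
    obtain ⟨T', hT', h1', hhT, hTc'⟩ := hh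
    refine ⟨T ∪ (fun z => g * z) '' T', ?_, Or.inl h1, Or.inr ⟨h, hhT, rfl⟩, ?_⟩
    · rintro z (hz | ⟨z, hz, rfl⟩)
      · exact hT hz
      · exact Subgroup.mul_mem _ (hT hgT) (hT' hz)
    · exact hTc.union g hgT ⟨1, h1', mul_one g⟩ (hTc'.image _ (continuous_const_mul g).continuousOn)
  | inv g _ hg =>
    obtain ⟨T, hT, h1, hgT, hTc⟩ := hg
    refine ⟨(fun z => g⁻¹ * z) '' T, ?_, ⟨g, hgT, inv_mul_cancel g⟩, ⟨1, h1, mul_one _⟩,
      hTc.image _ (continuous_const_mul g⁻¹).continuousOn⟩
    rintro _ ⟨z, hz, rfl⟩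
    exact Subgroup.mul_mem _ (Subgroup.inv_mem _ (hT hgT)) (hT hz)

/-- A connected group of unipotent points is nilpotent. -/
theorem exists_lcs_eq_bot_of_uni (hconn : _root_.IsPreconnected (Set.univ : Set (Pt k A)))
    (huni : ∀ g : Pt k A, IsUni g) : ∃ n, (⊤ : Subgroup (Pt k A)).lowerCentralSeries n = ⊥ := by
  have hKc : IsClosed ((⊤ : Subgroup (Pt k A)) : Set (Pt k A)) := by rw [Subgroup.coe_top]; exact isClosed_univ
  have hK : _root_.IsPreconnected ((⊤ : Subgroup (Pt k A)) : Set (Pt k A)) := by rwa [Subgroup.coe_top]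
  obtain ⟨S, hS, -⟩ := exists_isMaxTor hKc hK
  refine exists_lcs_eq_bot hconn hS fun s hs g => ?_
  rw [eq_bot_of_uni hS.tor fun u _ => huni u, Subgroup.mem_bot] at hs
  rw [hs, one_mul, mul_one]

theorem isPreconnected_lcs (hconn : _root_.IsPreconnected (Set.univ : Set (Pt k A))) (n : ℕ) :
    _root_.IsPreconnected (((⊤ : Subgroup (Pt k A)).lowerCentralSeries n : Subgroup (Pt k A)) : Set (Pt k A)) := by
  cases n with
  | zero => rw [Subgroup.lowerCentralSeries_zero, Subgroup.coe_top]; exact hconn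
  | succ n =>
    rw [Subgroup.lowerCentralSeries_succ]
    exact isPreconnected_commutator (by rw [Subgroup.coe_top]; exact hconn)

/-- The elements normalising a subgroup. -/
def Normalizes (H : Subgroup (Pt k A)) (g : Pt k A) : Prop := ∀ h ∈ H, g * h * g⁻¹ ∈ H

/-- A proper connected closed subgroup of a connected unipotent group is strictly contained in a connected closed
subgroup normalising it. -/
theorem exists_normalizing (hconn : _root_.IsPreconnected (Set.univ : Set (Pt k A))) (huni : ∀ g : Pt k A, IsUni g)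
    {H : Subgroup (Pt k A)} (hHc : IsClosed (H : Set (Pt k A))) (hH : _root_.IsPreconnected (H : Set (Pt k A)))
    (hne : H ≠ ⊤) :
    ∃ K : Subgroup (Pt k A), IsClosed (K : Set (Pt k A)) ∧ _root_.IsPreconnected (K : Set (Pt k A)) ∧ H < K ∧
      ∀ g ∈ K, Normalizes H g := by
  classical
  obtain ⟨n, hn⟩ := exists_lcs_eq_bot_of_uni hconn huni
  have hex : ∃ m, (⊤ : Subgroup (Pt k A)).lowerCentralSeries m ≤ H := ⟨n, by rw [hn]; exact bot_le⟩
  set m := Nat.find hex with hm
  have hmH : (⊤ : Subgroup (Pt k A)).lowerCentralSeries m ≤ H := Nat.find_spec hex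
  obtain ⟨j, hj⟩ : ∃ j, m = j + 1 := Nat.exists_eq_succ_of_ne_zero fun h => hne (top_le_iff.1 (by
    simpa [h] using hmH))
  let C := (⊤ : Subgroup (Pt k A)).lowerCentralSeries j
  have hCH : ¬ C ≤ H := fun h => absurd (Nat.find_le h : m ≤ j) (by omega)
  have hcomm : ∀ c ∈ C, ∀ g, ⁅c, g⁆ ∈ H := fun c hc g => hmH (by
    rw [hj, Subgroup.lowerCentralSeries_succ]
    exact Subgroup.commutator_mem_commutator hc (Subgroup.mem_top g))
  let P : Subgroup (Pt k A) :=
    { carrier := {g | Normalizes H g ∧ Normalizes H g⁻¹}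
      one_mem' := by simp [Normalizes]
      inv_mem' := fun {g} hg => ⟨hg.2, by rw [inv_inv]; exact hg.1⟩
      mul_mem' := fun {a b} ha hb => ⟨fun h hh => by
          rw [show a * b * h * (a * b)⁻¹ = a * (b * h * b⁻¹) * a⁻¹ by group]
          exact ha.1 _ (hb.1 h hh),
        fun h hh => by
          rw [show (a * b)⁻¹ * h * (a * b)⁻¹⁻¹ = b⁻¹ * (a⁻¹ * h * a⁻¹⁻¹) * b⁻¹⁻¹ by group]
          exact hb.2 _ (ha.2 h hh)⟩ }
  have hHP : H ≤ P := fun g hg => ⟨fun h hh => H.mul_mem (H.mul_mem hg hh) (H.inv_mem hg),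
    fun h hh => H.mul_mem (H.mul_mem (H.inv_mem hg) hh) (H.inv_mem (H.inv_mem hg))⟩
  have hCN : ∀ c ∈ C, Normalizes H c := fun c hc h hh => by
    rw [show c * h * c⁻¹ = ⁅c, h⁆ * h by rw [commutatorElement_def]; group]
    exact H.mul_mem (hcomm c hc h) hh
  have hCP : C ≤ P := fun c hc => ⟨hCN c hc, hCN c⁻¹ (C.inv_mem hc)⟩
  refine ⟨clSub (H ⊔ C), isClosed_clSub _, (isPreconnected_sup hH (isPreconnected_lcs hconn j)).closure,
    lt_of_le_of_ne (le_sup_left.trans (le_clSub _)) fun e => hCH ((le_sup_right.trans (le_clSub _)).trans e.ge),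
    fun g hg h hh => ?_⟩
  have hcont : Continuous fun x : Pt k A => x * h * x⁻¹ :=
    (((IsMor.id.mul (IsMor.const h)).mul IsMor.id.inv)).continuous
  have h2 := map_mem_closure hcont hg
    (fun x hx => ((sup_le hHP hCP) hx).1 h hh : Set.MapsTo _ ((H ⊔ C : Subgroup (Pt k A)) : Set (Pt k A))
      (H : Set (Pt k A)))
  rwa [hHc.closure_eq] at h2

variable {G : Over (Spec (CommRingCat.of k))} [GrpObj G] (v : sp k A ≅ G) [IsMonHom v.hom] [IsAffine G.left]
  [Smooth G.hom] [ConnectedSpace G.left]
  {U : Over (Spec (CommRingCat.of k))} [GrpObj U] (i : U ⟶ G) [IsMonHom i] [IsClosedImmersion i.left] [Smooth U.hom]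
  [ConnectedSpace U.left]

/-- An irreducible group scheme. -/
theorem irreducibleSpace_grp {X : Over (Spec (CommRingCat.of k))} [GrpObj X] [LocallyOfFiniteType X.hom]
    [ConnectedSpace X.left] : IrreducibleSpace X.left := by
  haveI := CommSubLib.geometricallyIrreducible_of_connected X
  haveI : DiscreteTopology ↥(Spec (CommRingCat.of k)) := inferInstanceAs (DiscreteTopology (PrimeSpectrum k))
  exact GeometricallyIrreducible.irreducibleSpace X.hom fun _ _ => isOpen_discrete _

include v in
/-- A proper subgroup of a connected unipotent group is properly contained in a normalising point set; in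
codimension one it is normal on points. -/
theorem normalizes_of_codim_one (hno : Red.HasNoSubtorus k G) {d : ℕ}
    (hd : topologicalKrullDim ↥U.left = (d : WithBot ℕ∞))
    (hd' : topologicalKrullDim ↥G.left = ((d + 1 : ℕ) : WithBot ℕ∞)) :
    ∀ g : Pt k A, Normalizes (ptsSub v i) g := by
  haveI : QuasiCompact G.hom := inferInstance
  haveI : LocallyOfFiniteType U.hom := by rw [← Over.w i]; infer_instance
  intro g h hh
  by_cases hne : ptsSub v i = ⊤
  · rw [hne]; trivial
  have huni : ∀ g : Pt k A, IsUni g := fun g => uni_of_hasNoSubtorus v (𝟙 G) hno g (by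
    rw [mem_ptsSub]; exact ⟨_, Category.comp_id _⟩)
  obtain ⟨K, hKc, hK, hlt, hN⟩ := exists_normalizing (isPreconnected_univ_of_connected v) huni
    (isClosed_ptsSub v) (isPreconnected_ptsSub v) hne
  suffices K = ⊤ from hN g (this ▸ Subgroup.mem_top g) h hh
  obtain ⟨W, _, w, hw, hwc, hws, hwp, hwconn, -⟩ := exists_scheme_sub v hKc
  haveI := hw; haveI := hwc; haveI := hws; haveI := hwconn hK
  haveI : LocallyOfFiniteType W.hom := by rw [← Over.w w]; infer_instance
  haveI : AlgebraicGeometry.IsReduced U.left := AlgSpLib.isReduced_of_smooth U.hom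
  haveI : AlgebraicGeometry.IsReduced W.left := AlgSpLib.isReduced_of_smooth W.hom
  haveI : IrreducibleSpace W.left := irreducibleSpace_grp
  haveI : IrreducibleSpace G.left := irreducibleSpace_grp
  by_contra hK'
  obtain ⟨f, hf⟩ := exists_factor_of_le v (i := i) (i' := w) (hlt.le.trans hwp.ge)
  haveI : IsClosedImmersion (f.left ≫ w.left) := by rw [← Over.comp_left, hf]; infer_instance
  haveI : IsClosedImmersion f.left := IsClosedImmersion.of_comp f.left w.left
  have hdim : ∀ {X Y : Scheme.{u}} [IrreducibleSpace Y] (c : X ⟶ Y) [IsClosedImmersion c],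
      topologicalKrullDim Y ≠ ⊤ → Set.range c ≠ Set.univ → topologicalKrullDim X < topologicalKrullDim Y := by
    intro X Y _ c _ hfin hr
    have e := IsHomeomorph.topologicalKrullDim_eq _ c.isClosedEmbedding.isEmbedding.toHomeomorph.isHomeomorph
    rw [e]
    exact MiscFlat6.dim_lt_of_ssubset hfin c.isClosedEmbedding.isClosed_range hr
  have hfinG : topologicalKrullDim ↥G.left ≠ ⊤ := by
    rw [hd']
    intro e
    exact absurd (WithBot.coe_eq_coe.1 (e : (((d + 1 : ℕ) : ℕ∞) : WithBot ℕ∞) = ((⊤ : ℕ∞) : WithBot ℕ∞))) (ENat.coe_ne_top _)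
  have hfinW : topologicalKrullDim ↥W.left ≠ ⊤ := fun e => hfinG (top_le_iff.1 (e ▸
    w.left.isClosedEmbedding.isInducing.topologicalKrullDim_le))
  have h1 : topologicalKrullDim ↥W.left < topologicalKrullDim ↥G.left := hdim w.left hfinG fun e => hK' (by
    rw [← hwp, eq_top_iff]
    intro x _
    rw [mem_ptsSub_iff, e]
    trivial)
  have h2 : topologicalKrullDim ↥U.left < topologicalKrullDim ↥W.left := hdim f.left hfinW fun e => hlt.ne (by
    refine le_antisymm hlt.le ?_
    rw [← hwp]
    intro x hx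
    rw [mem_ptsSub_iff] at hx ⊢
    obtain ⟨y, hy⟩ := hx
    obtain ⟨z, hz⟩ := (e ▸ Set.mem_univ y : y ∈ Set.range f.left)
    exact ⟨z, by rw [← hy, ← hz, ← hf]; rfl⟩)
  rw [hd] at h2
  rw [hd'] at h1
  have h3 : topologicalKrullDim ↥W.left ≤ (d : WithBot ℕ∞) := by
    generalize topologicalKrullDim ↥W.left = D at h1
    induction D with
    | bot => exact bot_le
    | coe a =>
      have h1' : a < ((d + 1 : ℕ) : ℕ∞) := WithBot.coe_lt_coe.1 h1
      push_cast at h1'
      exact WithBot.coe_le_coe.2 (Order.le_of_lt_add_one h1')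
  exact absurd (h2.trans_le h3) (lt_irrefl _)

end Groth.Agent.UnipNorm
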